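import Mathlib
import Cfsg.Prelude.Def_LocalEven
import Cfsg.Agent.Lib.LinGroup.SLTwoSylow
import Cfsg.Agent.Lib.SL2.Orders

/-! Coordinates adapted to a Sylow subgroup on a faithful natural `SL₂`-module. -/

set_option autoImplicit false

namespace Cfsg.Agent.Lib.NatSL2

open Matrix
open scoped Pointwise

variable {G : Type*} [Group G] {F : Type*} [Field F] {V L T : Subgroup G}

/-- Coordinates on a faithful natural module in which `T` is upper unitriangular. -/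
structure Frame (F : Type*) [Field F] (V L T : Subgroup G) where
  le_norm : L ≤ Subgroup.normalizer (V : Set G)
  le_L : T ≤ L
  ρ : L ≃* SpecialLinearGroup (Fin 2) F
  ψ : Additive V ≃+ (Fin 2 → F)
  equivariant : ∀ (l : L) (v : V), ∃ w : V, (w : G) = (l : G) * (v : G) * (l : G)⁻¹ ∧
    ψ (Additive.ofMul w) = (ρ l).1 *ᵥ ψ (Additive.ofMul v)
  mem_T : ∀ l : L, (l : G) ∈ T ↔ ∃ t, ρ l = SL2.upper t

namespace Frame

variable (f : Frame F V L T)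
include f

/-- The coordinates of a module element. -/
def c (v : G) (hv : v ∈ V) : Fin 2 → F := f.ψ (Additive.ofMul ⟨v, hv⟩)

theorem c_mul {v w : G} (hv : v ∈ V) (hw : w ∈ V) :
    f.c (v * w) (mul_mem hv hw) = f.c v hv + f.c w hw :=
  f.ψ.map_add (Additive.ofMul ⟨v, hv⟩) (Additive.ofMul ⟨w, hw⟩)

theorem c_inv {v : G} (hv : v ∈ V) : f.c v⁻¹ (inv_mem hv) = -f.c v hv :=
  f.ψ.map_neg (Additive.ofMul ⟨v, hv⟩)

theorem c_one : f.c 1 (one_mem V) = 0 := f.ψ.map_zero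

theorem c_inj {v w : G} {hv : v ∈ V} {hw : w ∈ V} (h : f.c v hv = f.c w hw) : v = w :=
  congrArg Subtype.val (Additive.ofMul.injective (f.ψ.injective h))

theorem c_surj (x : Fin 2 → F) : ∃ v : G, ∃ hv : v ∈ V, f.c v hv = x := by
  obtain ⟨v, hv⟩ := f.ψ.surjective x
  exact ⟨(Additive.toMul v).1, (Additive.toMul v).2, hv⟩

theorem conj_mem {l v : G} (hl : l ∈ L) (hv : v ∈ V) : l * v * l⁻¹ ∈ V :=
  (Subgroup.mem_normalizer_iff.1 (f.le_norm hl) v).1 hv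

theorem c_conj {l v : G} (hl : l ∈ L) (hv : v ∈ V) :
    f.c (l * v * l⁻¹) (f.conj_mem hl hv) = (f.ρ ⟨l, hl⟩).1 *ᵥ f.c v hv := by
  obtain ⟨⟨w, hw⟩, hw1, hw2⟩ := f.equivariant ⟨l, hl⟩ ⟨v, hv⟩
  change w = l * v * l⁻¹ at hw1
  subst hw1
  exact hw2

theorem commute_iff {l v : G} (hl : l ∈ L) (hv : v ∈ V) :
    l * v = v * l ↔ (f.ρ ⟨l, hl⟩).1 *ᵥ f.c v hv = f.c v hv := by
  rw [← f.c_conj hl hv, ← mul_inv_eq_iff_eq_mul]
  constructor
  · intro h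
    congr 1
  · exact f.c_inj

theorem commute_upper_iff {l v : G} (hl : l ∈ L) (hv : v ∈ V) {t : F}
    (ht : f.ρ ⟨l, hl⟩ = SL2.upper t) : l * v = v * l ↔ t * f.c v hv 1 = 0 := by
  rw [f.commute_iff hl hv, ht]
  constructor
  · intro h
    have := congrFun h 0
    simpa [SL2.upper, Matrix.mulVec, dotProduct, Fin.sum_univ_two] using this
  · intro h
    ext i
    fin_cases i <;> simp [SL2.upper, Matrix.mulVec, dotProduct, Fin.sum_univ_two, h]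

theorem exists_upper (t : F) : ∃ l : G, ∃ hl : l ∈ L, l ∈ T ∧ f.ρ ⟨l, hl⟩ = SL2.upper t := by
  obtain ⟨l, hl⟩ := f.ρ.surjective (SL2.upper t)
  exact ⟨l.1, l.2, (f.mem_T l).2 ⟨t, hl⟩, hl⟩

theorem mem_K {v : G} :
    v ∈ V ⊓ Subgroup.centralizer (T : Set G) ↔ ∃ hv : v ∈ V, f.c v hv 1 = 0 := by
  rw [Subgroup.mem_inf, Subgroup.mem_centralizer_iff]
  constructor
  · rintro ⟨hv, h⟩
    obtain ⟨l, hl, hlT, hρ⟩ := f.exists_upper 1
    exact ⟨hv, by simpa using (f.commute_upper_iff hl hv hρ).1 (h l hlT)⟩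
  · rintro ⟨hv, h⟩
    refine ⟨hv, fun l hl => ?_⟩
    obtain ⟨t, ht⟩ := (f.mem_T ⟨l, f.le_L hl⟩).1 hl
    exact (f.commute_upper_iff (f.le_L hl) hv ht).2 (by rw [h, mul_zero])

theorem exists_of_ne_one {s : G} (hs : s ∈ T) (hs1 : s ≠ 1) :
    ∃ t : F, t ≠ 0 ∧ f.ρ ⟨s, f.le_L hs⟩ = SL2.upper t := by
  obtain ⟨t, ht⟩ := (f.mem_T ⟨s, f.le_L hs⟩).1 hs
  refine ⟨t, fun h0 => hs1 ?_, ht⟩
  rw [h0, SL2.upper_zero] at ht
  exact congrArg Subtype.val ((map_eq_one_iff f.ρ f.ρ.injective).1 ht)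

theorem centralizer_singleton {s : G} (hs : s ∈ T) (hs1 : s ≠ 1) :
    V ⊓ Subgroup.centralizer ({s} : Set G) = V ⊓ Subgroup.centralizer (T : Set G) := by
  obtain ⟨t, ht0, ht⟩ := f.exists_of_ne_one hs hs1
  ext v
  rw [f.mem_K, Subgroup.mem_inf, Subgroup.mem_centralizer_iff]
  constructor
  · rintro ⟨hv, h⟩
    exact ⟨hv, (mul_eq_zero.1 ((f.commute_upper_iff (f.le_L hs) hv ht).1 (h s rfl))).resolve_left ht0⟩
  · rintro ⟨hv, h⟩
    refine ⟨hv, ?_⟩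
    rintro _ rfl
    exact (f.commute_upper_iff _ hv ht).2 (by rw [h, mul_zero])

theorem comm_mem {v t : G} (hv : v ∈ V) (ht : t ∈ T) : v * t * v⁻¹ * t⁻¹ ∈ V := by
  rw [show v * t * v⁻¹ * t⁻¹ = v * (t * v⁻¹ * t⁻¹) by group]
  exact mul_mem hv (f.conj_mem (f.le_L ht) (inv_mem hv))

theorem c_comm {v t : G} (hv : v ∈ V) (ht : t ∈ T) {a : F}
    (ha : f.ρ ⟨t, f.le_L ht⟩ = SL2.upper a) :
    f.c (v * t * v⁻¹ * t⁻¹) (f.comm_mem hv ht) = ![-(a * f.c v hv 1), 0] := by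
  have h : f.c (v * (t * v⁻¹ * t⁻¹)) (mul_mem hv (f.conj_mem (f.le_L ht) (inv_mem hv))) =
      ![-(a * f.c v hv 1), 0] := by
    rw [f.c_mul hv (f.conj_mem (f.le_L ht) (inv_mem hv)), f.c_conj (f.le_L ht) (inv_mem hv),
      f.c_inv hv, ha]
    ext i
    fin_cases i <;> simp [SL2.upper, Matrix.mulVec, dotProduct, Fin.sum_univ_two]
  convert h using 2
  group

theorem comm_mem_K {v t : G} (hv : v ∈ V) (ht : t ∈ T) :
    v * t * v⁻¹ * t⁻¹ ∈ V ⊓ Subgroup.centralizer (T : Set G) := by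
  obtain ⟨a, ha⟩ := (f.mem_T ⟨t, f.le_L ht⟩).1 ht
  exact f.mem_K.2 ⟨f.comm_mem hv ht, by rw [f.c_comm hv ht ha]; simp⟩

theorem commutator_le : ⁅V, T⁆ ≤ V ⊓ Subgroup.centralizer (T : Set G) :=
  Subgroup.commutator_le.2 fun _ hv _ ht => f.comm_mem_K hv ht

theorem commutator_commutator : ⁅⁅V, T⁆, T⁆ = ⊥ := by
  rw [eq_bot_iff]
  refine Subgroup.commutator_le.2 fun k hk t ht => ?_
  rw [Subgroup.mem_bot, commutatorElement_eq_one_iff_mul_comm]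
  exact ((Subgroup.mem_centralizer_iff.1 (f.commutator_le hk).2) t ht).symm

theorem le_commutator_zpowers {s : G} (hs : s ∈ T) (hs1 : s ≠ 1) :
    V ⊓ Subgroup.centralizer (T : Set G) ≤ ⁅V, Subgroup.zpowers s⁆ := by
  obtain ⟨t, ht0, ht⟩ := f.exists_of_ne_one hs hs1
  intro k hk
  obtain ⟨hkV, hk1⟩ := f.mem_K.1 hk
  obtain ⟨v, hv, hcv⟩ := f.c_surj ![0, -(f.c k hkV 0 / t)]
  have : k = v * s * v⁻¹ * s⁻¹ := by
    refine f.c_inj (hv := hkV) (hw := f.comm_mem hv hs) ?_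
    rw [f.c_comm hv hs ht, hcv]
    ext i
    fin_cases i
    · simp [mul_div_cancel₀ _ ht0]
    · simpa using hk1
  rw [this, ← commutatorElement_def]
  exact Subgroup.commutator_mem_commutator hv (Subgroup.mem_zpowers s)

theorem closure_comm {v : G} (hv : v ∈ V) (hvn : v ∉ Subgroup.centralizer (T : Set G)) :
    Subgroup.closure {x : G | ∃ t ∈ T, x = v * t * v⁻¹ * t⁻¹} =
      V ⊓ Subgroup.centralizer (T : Set G) := by
  refine le_antisymm ((Subgroup.closure_le _).2 ?_) fun k hk => ?_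
  · rintro _ ⟨t, ht, rfl⟩
    exact f.comm_mem_K hv ht
  · have hy : f.c v hv 1 ≠ 0 := fun h => hvn (f.mem_K.2 ⟨hv, h⟩).2
    obtain ⟨hkV, hk1⟩ := f.mem_K.1 hk
    obtain ⟨t, htL, htT, ht⟩ := f.exists_upper (-(f.c k hkV 0 / f.c v hv 1))
    refine Subgroup.subset_closure ⟨t, htT, ?_⟩
    refine f.c_inj (hv := hkV) (hw := f.comm_mem hv htT) ?_
    rw [f.c_comm hv htT ht]
    ext i
    fin_cases i
    · simp [div_mul_cancel₀ _ hy]
    · simpa using hk1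

theorem card_K [Finite F] : Nat.card ↥(V ⊓ Subgroup.centralizer (T : Set G)) = Nat.card F := by
  refine Nat.card_eq_of_bijective (fun k => f.c k.1 (f.mem_K.1 k.2).1 0) ⟨fun a b h => ?_, fun x => ?_⟩
  · refine Subtype.ext (f.c_inj (hv := (f.mem_K.1 a.2).1) (hw := (f.mem_K.1 b.2).1) ?_)
    ext i
    fin_cases i
    · exact h
    · exact (f.mem_K.1 a.2).2.trans (f.mem_K.1 b.2).2.symm
  · obtain ⟨v, hv, hcv⟩ := f.c_surj ![x, 0]
    exact ⟨⟨v, f.mem_K.2 ⟨hv, by rw [hcv]; simp⟩⟩, by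
      show f.c v hv 0 = x
      rw [hcv]; simp⟩

theorem card_V [Finite F] : Nat.card V = Nat.card F ^ 2 := by
  rw [show Nat.card V = Nat.card (Additive V) from rfl, Nat.card_congr f.ψ.toEquiv, Nat.card_fun,
    Nat.card_fin]

theorem mem_normalizer_of_10 {g : G} (hg : g ∈ L)
    (h : f.ρ ⟨g, hg⟩ 1 0 = 0) : g ∈ Subgroup.normalizer (T : Set G) := by
  have fwd : ∀ (l : G) (hl : l ∈ L), f.ρ ⟨l, hl⟩ 1 0 = 0 → ∀ x ∈ T, l * x * l⁻¹ ∈ T := by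
    intro l hl hl0 x hx
    obtain ⟨t, ht⟩ := (f.mem_T ⟨x, f.le_L hx⟩).1 hx
    refine (f.mem_T (⟨l, hl⟩ * ⟨x, f.le_L hx⟩ * (⟨l, hl⟩)⁻¹)).2
      ⟨f.ρ ⟨l, hl⟩ 0 0 ^ 2 * t, ?_⟩
    rw [map_mul, map_mul, map_inv, ht, LinGroup.borel_normalizes_upperSub hl0]
  refine Subgroup.mem_normalizer_iff.2 fun x => ⟨fwd g hg h x, fun hx => ?_⟩
  have h' : f.ρ ⟨g⁻¹, inv_mem hg⟩ 1 0 = 0 := by
    rw [show (⟨g⁻¹, inv_mem hg⟩ : L) = (⟨g, hg⟩ : L)⁻¹ from rfl, map_inv, SL2.inv_10, h, neg_zero]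
  simpa [mul_assoc] using fwd g⁻¹ (inv_mem hg) h' _ hx

theorem exists_torus (a : Fˣ) : ∃ l : G, ∃ hl : l ∈ L,
    l ∈ Subgroup.normalizer (T : Set G) ∧ f.ρ ⟨l, hl⟩ = SL2.diag a := by
  obtain ⟨l, hl⟩ := f.ρ.surjective (SL2.diag a)
  exact ⟨l.1, l.2, f.mem_normalizer_of_10 l.2 (by rw [show (⟨l.1, l.2⟩ : L) = l from rfl, hl]; rfl), hl⟩

theorem c_torus {a : Fˣ} {l v : G} (hl : l ∈ L) (hv : v ∈ V) (h : f.ρ ⟨l, hl⟩ = SL2.diag a) :
    f.c (l * v * l⁻¹) (f.conj_mem hl hv) = ![(a : F) * f.c v hv 0, ((a⁻¹ : Fˣ) : F) * f.c v hv 1] := by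
  rw [f.c_conj hl hv, h]
  ext i
  fin_cases i <;> simp [SL2.diag, Matrix.mulVec, dotProduct, Fin.sum_univ_two]

end Frame

theorem exists_frame [Finite G] [Fintype F] {p : ℕ} [Fact p.Prime] [CharP F p]
    (hnat : Cfsg.IsNaturalSL2Module F V L) (hf : L ⊓ Subgroup.centralizer (V : Set G) = ⊥)
    (S : Sylow p L) : Nonempty (Frame F V L ((S : Subgroup L).map L.subtype)) := by
  obtain ⟨hN, ρ, ψ, hsurj, hker, heq⟩ := hnat
  have hinj : Function.Injective ρ := by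
    rw [← MonoidHom.ker_eq_bot_iff, hker, Subgroup.eq_bot_iff_forall]
    intro l hl
    exact Subtype.ext ((Subgroup.eq_bot_iff_forall _).1 hf l.1 ⟨l.2, hl⟩)
  obtain ⟨g, hg⟩ := LinGroup.exists_conj_upperSub p (S.mapSurjective hsurj)
  rw [Sylow.coe_mapSurjective] at hg
  refine ⟨⟨hN, Subgroup.map_subtype_le _,
    (MulEquiv.ofBijective ρ ⟨hinj, hsurj⟩).trans (MulAut.conj g⁻¹),
    ψ.trans
      { toFun := fun v => g⁻¹.1 *ᵥ v
        invFun := fun v => g.1 *ᵥ v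
        left_inv := fun v => by
          show g.1 *ᵥ (g⁻¹.1 *ᵥ v) = v
          rw [Matrix.mulVec_mulVec, show g.1 * g⁻¹.1 = (g * g⁻¹).1 from rfl, mul_inv_cancel,
            show (1 : SpecialLinearGroup (Fin 2) F).1 = 1 from rfl, Matrix.one_mulVec]
        right_inv := fun v => by
          show g⁻¹.1 *ᵥ (g.1 *ᵥ v) = v
          rw [Matrix.mulVec_mulVec, show g⁻¹.1 * g.1 = (g⁻¹ * g).1 from rfl, inv_mul_cancel,
            show (1 : SpecialLinearGroup (Fin 2) F).1 = 1 from rfl, Matrix.one_mulVec]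
        map_add' := fun v w => Matrix.mulVec_add _ v w }, ?_, ?_⟩⟩
  · intro l v
    obtain ⟨w, hw1, hw2⟩ := heq l v
    refine ⟨w, hw1, ?_⟩
    show g⁻¹.1 *ᵥ ψ (Additive.ofMul w) = (g⁻¹ * ρ l * (g⁻¹)⁻¹).1 *ᵥ (g⁻¹.1 *ᵥ ψ (Additive.ofMul v))
    rw [hw2, Matrix.mulVec_mulVec, Matrix.mulVec_mulVec,
      show g⁻¹.1 * (ρ l).1 = (g⁻¹ * ρ l).1 from rfl,
      show (g⁻¹ * ρ l * (g⁻¹)⁻¹).1 * g⁻¹.1 = (g⁻¹ * ρ l * (g⁻¹)⁻¹ * g⁻¹).1 from rfl,
      inv_mul_cancel_right]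
  · intro l
    have h1 : (l : G) ∈ (S : Subgroup L).map L.subtype ↔ l ∈ (S : Subgroup L) := by
      rw [Subgroup.mem_map]
      exact ⟨fun ⟨x, hx, hxl⟩ => Subtype.ext hxl ▸ hx, fun hl => ⟨l, hl, rfl⟩⟩
    show _ ↔ ∃ t, g⁻¹ * ρ l * (g⁻¹)⁻¹ = SL2.upper t
    rw [h1, ← Subgroup.mem_map_iff_mem hinj, hg, Subgroup.mem_pointwise_smul_iff_inv_smul_mem,
      MulAut.smul_def, ← map_inv, MulAut.conj_apply, LinGroup.mem_upperSub_iff]

theorem pow_eq_one_of_fixed {p : ℕ} [Fact p.Prime] [CharP F p] {A : SpecialLinearGroup (Fin 2) F}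
    {x : Fin 2 → F} (hx : x ≠ 0) (h : A.1 *ᵥ x = x) : A ^ p = 1 := by
  refine SL2.pow_char_of_tr_two p ?_
  have e0 := congrFun h 0
  have e1 := congrFun h 1
  simp [Matrix.mulVec, dotProduct, Fin.sum_univ_two] at e0 e1
  have hd := SL2.det_entries A
  have k0 : (SL2.tr A - 2) * x 0 = 0 := by
    simp only [SL2.tr]
    linear_combination x 0 * hd - (A 1 1 - 1) * e0 + A 0 1 * e1
  have k1 : (SL2.tr A - 2) * x 1 = 0 := by
    simp only [SL2.tr]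
    linear_combination x 1 * hd - (A 0 0 - 1) * e1 + A 1 0 * e0
  by_contra hne
  exact hx (by
    ext i
    fin_cases i
    · exact (mul_eq_zero.1 k0).resolve_left (sub_ne_zero.2 hne)
    · exact (mul_eq_zero.1 k1).resolve_left (sub_ne_zero.2 hne))

theorem charP_of_card [Fintype F] {p n : ℕ} [Fact p.Prime] (h : Fintype.card F = p ^ n) :
    CharP F p := by
  have hn : n ≠ 0 := fun h0 => by
    have := Fintype.one_lt_card (α := F)
    rw [h, h0] at this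
    simp at this
  obtain ⟨q, hq⟩ := CharP.exists F
  haveI := hq
  obtain ⟨m, hqp, hm⟩ := FiniteField.card F q
  have : p = q := by
    have hd : p ∣ q ^ (m : ℕ) := by rw [← hm, h]; exact dvd_pow_self p hn
    exact (Nat.prime_dvd_prime_iff_eq Fact.out hqp).1 ((Fact.out : p.Prime).dvd_of_dvd_pow hd)
  exact this ▸ hq

end Cfsg.Agent.Lib.NatSL2
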